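import Groth.Agent.Lib.GenFree.Generic
import Mathlib.RingTheory.Flat.Basic
import Mathlib.LinearAlgebra.TensorProduct.Quotient
import Mathlib.LinearAlgebra.DirectSum.Finsupp
import Mathlib.RingTheory.Extension.Presentation.Core
import Mathlib.RingTheory.FiniteStability

/-!
Sections of flat finitely presented algebras which vanish over a schematically dense open are zero.
-/

universe u

open TensorProduct

namespace GrothLib.SchDensePull

section coord

variable {R : Type u} [CommRing R] {C : Type u} [AddCommGroup C] [Module R C] (f : R)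
  (Rf : Type u) [CommRing Rf] [Algebra R Rf] [IsLocalization.Away f Rf]
  {ι : Type u} (φ : (ι →₀ R) →ₗ[R] C)

/-- A linear left inverse after inverting `f` of a map bijective up to `f`-torsion. -/
theorem exists_coordMap (h1 : ∀ c, ∃ (e : ℕ) (l : ι →₀ R), φ l = f ^ e • c)
    (h2 : ∀ l, φ l = 0 → ∃ e : ℕ, f ^ e • l = 0) :
    ∃ ψ : C →ₗ[R] (ι →₀ Rf), ψ ∘ₗ φ = Finsupp.mapRange.linearMap (Algebra.linearMap R Rf) := by
  let J : (ι →₀ R) →ₗ[R] (ι →₀ Rf) := Finsupp.mapRange.linearMap (Algebra.linearMap R Rf)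
  have hu : IsUnit (algebraMap R Rf f) := IsLocalization.Away.algebraMap_isUnit f
  have hcancel : ∀ (k : ℕ) (v w : ι →₀ Rf), f ^ k • v = f ^ k • w → v = w := by
    intro k v w h
    ext i
    have := DFunLike.congr_fun h i
    simp only [Finsupp.smul_apply, Algebra.smul_def, map_pow] at this
    exact (hu.pow k).mul_left_cancel this
  have hdiv : ∀ (k : ℕ) (w : ι →₀ Rf), ∃ v, f ^ k • v = w := by
    intro k w
    refine ⟨((hu.pow k).unit⁻¹ : Rfˣ).1 • w, ?_⟩
    ext i
    rw [Finsupp.smul_apply, Finsupp.smul_apply, smul_eq_mul, Algebra.smul_def, map_pow, ← mul_assoc,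
      IsUnit.mul_val_inv, one_mul]
  have hwd : ∀ (c : C) (e e' : ℕ) (l l' : ι →₀ R), φ l = f ^ e • c → φ l' = f ^ e' • c →
      f ^ e' • J l = f ^ e • J l' := by
    intro c e e' l l' hl hl'
    obtain ⟨d, hd⟩ := h2 (f ^ e' • l - f ^ e • l') (by
      rw [map_sub, map_smul, map_smul, hl, hl', smul_comm, sub_self])
    have := congrArg J hd
    rw [map_smul, map_sub, map_smul, map_smul, map_zero, ← smul_zero (f ^ d)] at this
    exact sub_eq_zero.mp (hcancel d _ _ this)
  choose e l hl using h1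
  choose v hv using fun c => hdiv (e c) (J (l c))
  have key : ∀ (c : C) (k : ℕ) (m : ι →₀ R), φ m = f ^ k • c → f ^ k • v c = J m := by
    intro c k m hm
    refine hcancel (e c) _ _ ?_
    rw [smul_comm, hv]
    exact hwd c (e c) k (l c) m (hl c) hm
  refine ⟨⟨⟨v, fun c c' => hcancel (e c + e c') _ _ ?_⟩, fun r c => hcancel (e c) _ _ ?_⟩, ?_⟩
  · rw [key (c + c') (e c + e c') (f ^ e c' • l c + f ^ e c • l c') (by
        rw [map_add, map_smul, map_smul, hl c, hl c', smul_smul, smul_smul, smul_add, pow_add, mul_comm]),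
      map_add, map_smul, map_smul, smul_add, ← hv c, ← hv c', smul_smul, smul_smul, pow_add, mul_comm]
  · rw [key (r • c) (e c) (r • l c) (by rw [map_smul, hl, smul_comm]), map_smul, RingHom.id_apply,
      smul_comm, hv]
  · ext i j
    have := key (φ (Finsupp.single i 1)) 0 (Finsupp.single i 1) (by simp)
    rw [pow_zero, one_smul] at this
    exact DFunLike.congr_fun this j

end coord

variable {A₀ : Type u} [CommRing A₀] {A : Type u} [CommRing A] [Algebra A₀ A]
  {B₀ : Type u} [CommRing B₀] [Algebra A₀ B₀]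

/-- The annihilator of an ideal of `A₀` in `A`. -/
def annIn (p : Ideal A₀) : Submodule A A where
  carrier := {m | ∀ c ∈ p, c • m = 0}
  add_mem' := fun ha hb c hc => by rw [smul_add, ha c hc, hb c hc, add_zero]
  zero_mem' := fun c _ => smul_zero c
  smul_mem' := fun a m hm c hc => by rw [smul_comm, hm c hc, smul_zero]

theorem isTorsionBySet_annIn (p : Ideal A₀) :
    Module.IsTorsionBySet A₀ (annIn (A := A) p) (p : Set A₀) :=
  fun m c => Subtype.ext (m.2 c c.2)

theorem exists_smul_eq_zero_of_tmul_one_eq_zero (p : Ideal A₀) (f : A₀)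
    (Rf : Type u) [CommRing Rf] [Algebra A₀ Rf] [Algebra (A₀ ⧸ p) Rf]
    [IsScalarTower A₀ (A₀ ⧸ p) Rf] [IsLocalization.Away (Ideal.Quotient.mk p f) Rf]
    (m : annIn (A := A) p) (h : m ⊗ₜ[A₀] (1 : Rf) = 0) : ∃ k : ℕ, f ^ k • (m : A) = 0 := by
  letI : Module (A₀ ⧸ p) (annIn (A := A) p) := (isTorsionBySet_annIn p).module
  haveI : IsScalarTower A₀ (A₀ ⧸ p) (annIn (A := A) p) :=
    (isTorsionBySet_annIn p).isScalarTower
  let N := Rf ⊗[A₀ ⧸ p] annIn (A := A) p
  let j : annIn (A := A) p →ₗ[A₀ ⧸ p] N := TensorProduct.mk (A₀ ⧸ p) Rf _ 1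
  haveI : IsLocalizedModule (Submonoid.powers (Ideal.Quotient.mk p f)) j :=
    (isLocalizedModule_iff_isBaseChange (Submonoid.powers (Ideal.Quotient.mk p f)) Rf j).mpr
      (TensorProduct.isBaseChange (A₀ ⧸ p) _ Rf)
  let L : annIn (A := A) p ⊗[A₀] Rf →ₗ[A₀] N :=
    TensorProduct.lift (((TensorProduct.mk (A₀ ⧸ p) Rf (annIn (A := A) p)).restrictScalars₁₂ A₀ A₀).flip)
  have h1 : j m = 0 := by
    have := congrArg L h
    rw [map_zero] at this
    simp [L] at this
    exact this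
  obtain ⟨⟨_, k, rfl⟩, hk⟩ :=
    (IsLocalizedModule.eq_zero_iff (Submonoid.powers (Ideal.Quotient.mk p f)) j).mp h1
  refine ⟨k, congrArg Subtype.val (show f ^ k • m = 0 from ?_)⟩
  rw [← hk]
  exact (algebraMap_smul (A₀ ⧸ p) (f ^ k) m).symm

/-- The prime annihilator of a multiple of a nonzero element. -/
theorem exists_prime_ann [IsNoetherianRing B₀] {T : Type u} [CommRing T] (i : B₀ →+* T) (b : B₀)
    (hb : i b ≠ 0) :
    ∃ (x : B₀) (q : Ideal B₀), q.IsPrime ∧ ∀ y, y ∈ q ↔ i (y * (x * b)) = 0 := by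
  let Q : B₀ → Ideal B₀ := fun x =>
    { carrier := {y | i (y * (x * b)) = 0}
      add_mem' := fun {a c} ha hc => by
        simp only [Set.mem_setOf_eq, add_mul, map_add] at *; rw [ha, hc, add_zero]
      zero_mem' := by simp
      smul_mem' := fun c a ha => by
        simp only [Set.mem_setOf_eq, smul_eq_mul, mul_assoc, map_mul] at *; rw [ha, mul_zero] }
  obtain ⟨_, ⟨x, hx, rfl⟩, hmax⟩ :=
    set_has_maximal_iff_noetherian.mpr (inferInstanceAs (IsNoetherian B₀ B₀))
      (Q '' {x | i (x * b) ≠ 0}) ⟨_, 1, by simpa using hb, rfl⟩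
  refine ⟨x, Q x, ⟨?_, fun {y z} hyz => ?_⟩, fun _ => Iff.rfl⟩
  · intro he
    have : (1 : B₀) ∈ Q x := by rw [he]; trivial
    exact hx (by simpa [Q] using this)
  · refine or_iff_not_imp_left.mpr fun hy => ?_
    have hle : Q x ≤ Q (y * x) := fun w hw => by
      show i (w * (y * x * b)) = 0
      rw [show w * (y * x * b) = y * (w * (x * b)) by ring, map_mul, show i (w * (x * b)) = 0 from hw,
        mul_zero]
    have heq : Q x = Q (y * x) := by
      refine hle.lt_or_eq.resolve_left (hmax _ ⟨y * x, ?_, rfl⟩)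
      show i (y * x * b) ≠ 0
      rw [mul_assoc]
      exact hy
    rw [heq]
    show i (z * (y * x * b)) = 0
    rw [show z * (y * x * b) = y * z * (x * b) by ring]
    exact hyz

theorem tmul_eq_zero_of_forall [IsNoetherianRing A₀] [Algebra.FiniteType A₀ B₀]
    [Module.Flat A (A ⊗[A₀] B₀)] (P : Set A)
    (hP : ∀ s μ : A, (∀ a ∈ P, ∃ k n : ℕ, s ^ k * (a ^ n * μ) = 0) → ∃ k : ℕ, s ^ k * μ = 0)
    (b : B₀) (hb : ∀ a ∈ P, ∃ n : ℕ, (a ^ n) ⊗ₜ[A₀] b = 0) : (1 : A) ⊗ₜ[A₀] b = 0 := by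
  classical
  haveI : IsNoetherianRing B₀ := Algebra.FiniteType.isNoetherianRing A₀ B₀
  by_contra hne
  let i : B₀ →ₐ[A₀] A ⊗[A₀] B₀ := Algebra.TensorProduct.includeRight
  obtain ⟨x, q, hq, hann⟩ := exists_prime_ann i.toRingHom b hne
  let b₁ := x * b
  let p : Ideal A₀ := q.comap (algebraMap A₀ B₀)
  haveI : p.IsPrime := Ideal.comap_isPrime _ _
  have hp : ∀ c, c ∈ p ↔ (1 : A) ⊗ₜ[A₀] (c • b₁) = 0 := fun c => by
    rw [Ideal.mem_comap, hann, Algebra.smul_def]; rfl
  let M := annIn (A := A) p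
  -- `1 ⊗ b₁` comes from the annihilator of `p`
  obtain ⟨r, g, hg⟩ := Submodule.fg_iff_exists_fin_generating_family.mp (IsNoetherian.noetherian p)
  let G : A →ₗ[A] (Fin r → A) := LinearMap.pi fun k => (algebraMap A₀ A (g k)) • LinearMap.id
  have hexact : Function.Exact M.subtype G := by
    intro m
    constructor
    · intro hm
      refine ⟨⟨m, fun c hc => ?_⟩, rfl⟩
      rw [← hg] at hc
      induction hc using Submodule.span_induction with
      | mem c hc =>
        obtain ⟨k, rfl⟩ := hc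
        have := congrFun hm k
        simpa [G, Algebra.smul_def] using this
      | zero => exact zero_smul _ _
      | add c d _ _ h1 h2 => rw [add_smul, h1, h2, add_zero]
      | smul c d _ h1 => rw [smul_assoc, h1, smul_zero]
    · rintro ⟨m, rfl⟩
      ext k
      simpa [G, Algebra.smul_def] using m.2 (g k) (hg ▸ Submodule.subset_span ⟨k, rfl⟩)
  have hzero : G.rTensor (A ⊗[A₀] B₀) ((1 : A) ⊗ₜ ((1 : A) ⊗ₜ[A₀] b₁)) = 0 := by
    rw [LinearMap.rTensor_tmul, pi_eq_sum_univ' (G 1), TensorProduct.sum_tmul]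
    refine Finset.sum_eq_zero fun k _ => ?_
    rw [TensorProduct.smul_tmul]
    have hz : G 1 k • ((1 : A) ⊗ₜ[A₀] b₁) = 0 := by
      simp only [G, LinearMap.pi_apply, LinearMap.smul_apply, LinearMap.id_apply, smul_eq_mul, mul_one]
      rw [algebraMap_smul, ← TensorProduct.tmul_smul]
      exact (hp _).mp (hg ▸ Submodule.subset_span ⟨k, rfl⟩)
    rw [hz, TensorProduct.tmul_zero]
  obtain ⟨τ₁, hτ₁⟩ := ((Module.Flat.rTensor_exact (A ⊗[A₀] B₀) hexact) _).mp hzero
  let θ : M ⊗[A₀] B₀ →ₗ[A] A ⊗[A₀] B₀ := AlgebraTensorModule.map M.subtype LinearMap.id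
  let cbc := AlgebraTensorModule.cancelBaseChange A₀ A A M B₀
  have hθ : ∀ w, TensorProduct.lid A (A ⊗[A₀] B₀) (M.subtype.rTensor (A ⊗[A₀] B₀) (cbc.symm w)) = θ w := by
    intro w
    induction w using TensorProduct.induction_on with
    | zero => simp
    | tmul m c => simp [cbc, θ, TensorProduct.smul_tmul']
    | add _ _ h1 h2 => simp only [map_add, h1, h2]
  have hθinj : Function.Injective θ := by
    intro v w h
    rw [← hθ, ← hθ] at h
    exact cbc.symm.injective
      (Module.Flat.rTensor_preserves_injective_linearMap _ M.subtype_injective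
        ((TensorProduct.lid A (A ⊗[A₀] B₀)).injective h))
  obtain ⟨τ, hτ⟩ : ∃ τ, θ τ = (1 : A) ⊗ₜ[A₀] b₁ :=
    ⟨cbc τ₁, by rw [← hθ, LinearEquiv.symm_apply_apply, hτ₁]; simp⟩
  -- generic freeness of the fibre over `p`
  obtain ⟨fbar, -, hfbar, ι, φ, h1, h2⟩ :=
    GrothLib.GenFree.gf_of_finiteType (R := A₀ ⧸ p) ((A₀ ⧸ p) ⊗[A₀] B₀) ((A₀ ⧸ p) ⊗[A₀] B₀) 1 one_ne_zero
  obtain ⟨f, rfl⟩ := Ideal.Quotient.mk_surjective fbar
  have hfp : f ∉ p := fun h => hfbar (Ideal.Quotient.eq_zero_iff_mem.mpr h)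
  have hsurj : ∀ c : (A₀ ⧸ p) ⊗[A₀] B₀, ∃ y : B₀, (1 : A₀ ⧸ p) ⊗ₜ[A₀] y = c := by
    intro c
    induction c using TensorProduct.induction_on with
    | zero => exact ⟨0, TensorProduct.tmul_zero _ _⟩
    | tmul r y =>
      obtain ⟨r, rfl⟩ := Ideal.Quotient.mk_surjective r
      refine ⟨r • y, ?_⟩
      rw [TensorProduct.tmul_smul, TensorProduct.smul_tmul', Algebra.smul_def, mul_one]
      rfl
    | add c d h1 h2 =>
      obtain ⟨y, rfl⟩ := h1
      obtain ⟨z, rfl⟩ := h2
      exact ⟨y + z, TensorProduct.tmul_add _ _ _⟩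
  choose e he using fun j => hsurj (φ (Finsupp.single j 1))
  have hkill : ∀ (m : M) (y : B₀), (1 : A₀ ⧸ p) ⊗ₜ[A₀] y = 0 → m ⊗ₜ[A₀] y = 0 := by
    intro m y hy
    have h := congrArg (TensorProduct.quotTensorEquivQuotSMul B₀ p) hy
    rw [map_zero, ← map_one (Ideal.Quotient.mk p), TensorProduct.quotTensorEquivQuotSMul_mk_tmul,
      one_smul, Submodule.Quotient.mk_eq_zero] at h
    refine Submodule.smul_induction_on h (fun c hc z _ => ?_) (fun z w h1 h2 => ?_)
    · rw [← TensorProduct.smul_tmul, show c • m = 0 from Subtype.ext (m.2 c hc), TensorProduct.zero_tmul]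
    · rw [TensorProduct.tmul_add, h1, h2, add_zero]
  let Φ : (ι →₀ M) →ₗ[A₀] M ⊗[A₀] B₀ :=
    Finsupp.lsum A₀ fun j => (TensorProduct.mk A₀ M B₀).flip (e j)
  have hex : ∀ w : M ⊗[A₀] B₀, ∃ (k : ℕ) (μ : ι →₀ M), Φ μ = f ^ k • w := by
    intro w
    induction w using TensorProduct.induction_on with
    | zero => exact ⟨0, 0, by simp⟩
    | tmul m y =>
      obtain ⟨k, l, hl⟩ := h1 ((1 : A₀ ⧸ p) ⊗ₜ[A₀] y)
      choose c hc using fun j => Ideal.Quotient.mk_surjective (l j)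
      refine ⟨k, ∑ j ∈ l.support, Finsupp.single j (c j • m), ?_⟩
      rw [map_sum]
      have h0 : (1 : A₀ ⧸ p) ⊗ₜ[A₀] (∑ j ∈ l.support, c j • e j - f ^ k • y) = 0 := by
        rw [TensorProduct.tmul_sub, TensorProduct.tmul_sum, sub_eq_zero]
        calc ∑ j ∈ l.support, (1 : A₀ ⧸ p) ⊗ₜ[A₀] (c j • e j)
            = ∑ j ∈ l.support, φ (Finsupp.single j (l j)) := Finset.sum_congr rfl fun j _ => by
              rw [TensorProduct.tmul_smul, he, ← algebraMap_smul (A₀ ⧸ p) (c j), ← map_smul,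
                Ideal.Quotient.algebraMap_eq, hc, Finsupp.smul_single, smul_eq_mul, mul_one]
          _ = φ l := by rw [← map_sum]; congr 1; exact l.sum_single
          _ = _ := by
              rw [hl, TensorProduct.tmul_smul, ← algebraMap_smul (A₀ ⧸ p) (f ^ k), map_pow,
                Ideal.Quotient.algebraMap_eq]
      have h3 := hkill m _ h0
      rw [TensorProduct.tmul_sub, TensorProduct.tmul_sum, sub_eq_zero, TensorProduct.tmul_smul] at h3
      rw [← h3]
      refine Finset.sum_congr rfl fun j _ => ?_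
      simp [Φ, TensorProduct.smul_tmul]
    | add v w hv hw =>
      obtain ⟨k, μ, hμ⟩ := hv
      obtain ⟨k', μ', hμ'⟩ := hw
      refine ⟨k + k', f ^ k' • μ + f ^ k • μ', ?_⟩
      rw [map_add, map_smul, map_smul, hμ, hμ', smul_add, smul_smul, smul_smul, pow_add, mul_comm]
  obtain ⟨k₀, μ, hμ⟩ := hex τ
  let Rf := Localization.Away (Ideal.Quotient.mk p f)
  obtain ⟨ψ, hψ⟩ := exists_coordMap (Ideal.Quotient.mk p f) Rf φ h1 h2
  let χ : B₀ →ₗ[A₀] (ι →₀ Rf) :=
    ψ.restrictScalars A₀ ∘ₗ TensorProduct.mk A₀ (A₀ ⧸ p) B₀ 1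
  let Ψ : ι → (M ⊗[A₀] B₀ →ₗ[A] M ⊗[A₀] Rf) := fun j =>
    AlgebraTensorModule.map LinearMap.id (Finsupp.lapply j ∘ₗ χ)
  have hΨ : ∀ (ν : ι →₀ M) j, Ψ j (Φ ν) = ν j ⊗ₜ[A₀] (1 : Rf) := by
    intro ν j
    induction ν using Finsupp.induction_linear with
    | zero => simp
    | add a c ha hc => rw [map_add, map_add, ha, hc, Finsupp.add_apply, TensorProduct.add_tmul]
    | single l m =>
      have hχ : χ (e l) = Finsupp.single l (1 : Rf) := by
        show ψ ((1 : A₀ ⧸ p) ⊗ₜ[A₀] e l) = _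
        rw [he, ← LinearMap.comp_apply, hψ]
        simp
      simp only [Φ, Finsupp.lsum_single, LinearMap.flip_apply, TensorProduct.mk_apply, Ψ,
        AlgebraTensorModule.map_tmul, LinearMap.id_apply, LinearMap.comp_apply, hχ, Finsupp.lapply_apply]
      by_cases hlj : l = j
      · subst hlj; simp
      · simp [Finsupp.single_eq_of_ne (Ne.symm hlj)]
  have hμ0 : ∀ j, ∃ k : ℕ, f ^ k • μ j = 0 := by
    intro j
    obtain ⟨k, hk⟩ := hP (algebraMap A₀ A f) (μ j : A) fun a ha => by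
      obtain ⟨n, hn⟩ := hb a ha
      have h3 : θ (a ^ n • τ) = 0 := by
        rw [map_smul, hτ, TensorProduct.smul_tmul', smul_eq_mul, mul_one]
        have := congrArg (fun w => w * ((1 : A) ⊗ₜ[A₀] x)) hn
        simp only [Algebra.TensorProduct.tmul_mul_tmul, mul_one, zero_mul] at this
        rwa [show b * x = b₁ from mul_comm b x] at this
      have h4 : a ^ n • τ = 0 := hθinj (by rw [h3, map_zero])
      have h5 : (a ^ n • μ j) ⊗ₜ[A₀] (1 : Rf) = 0 := by
        rw [← TensorProduct.smul_tmul', ← hΨ, hμ, ← map_smul, smul_comm, h4, smul_zero, map_zero]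
      obtain ⟨k, hk⟩ := exists_smul_eq_zero_of_tmul_one_eq_zero p f Rf _ h5
      refine ⟨k, n, ?_⟩
      rwa [Algebra.smul_def, map_pow, SetLike.val_smul, smul_eq_mul] at hk
    exact ⟨k, Subtype.ext (by rw [SetLike.val_smul_of_tower, Algebra.smul_def, map_pow]; exact hk)⟩
  choose k hk using hμ0
  let K := μ.support.sup k
  have hK : f ^ K • μ = 0 := by
    ext1 j
    rw [Finsupp.smul_apply, Finsupp.zero_apply]
    by_cases hj : j ∈ μ.support
    · obtain ⟨d, hd⟩ := Nat.exists_eq_add_of_le (Finset.le_sup (f := k) hj)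
      rw [show K = d + k j by omega, pow_add, mul_smul, hk, smul_zero]
    · rw [Finsupp.notMem_support_iff.mp hj, smul_zero]
  have h6 : f ^ (K + k₀) • τ = 0 := by
    rw [pow_add, mul_smul, ← hμ, ← map_smul, hK, map_zero]
  refine hfp (‹p.IsPrime›.mem_of_pow_mem (K + k₀) ((hp _).mpr ?_))
  rw [TensorProduct.tmul_smul, ← hτ, ← LinearMap.map_smul_of_tower, h6, map_zero]

/-- Elements of a flat finitely presented algebra vanishing over a schematically dense open vanish. -/
theorem eq_zero_of_forall {B : Type u} [CommRing B] [Algebra A B] [Module.Flat A B]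
    [Algebra.FinitePresentation A B] (P : Set A)
    (hP : ∀ s μ : A, (∀ a ∈ P, ∃ k n : ℕ, s ^ k * (a ^ n * μ) = 0) → ∃ k : ℕ, s ^ k * μ = 0)
    (t : B) (ht : ∀ a ∈ P, ∃ n : ℕ, a ^ n • t = 0) : t = 0 := by
  classical
  let Pr := Algebra.Presentation.ofFinitePresentation A B
  obtain ⟨Q, rfl⟩ : ∃ Q : MvPolynomial _ A, MvPolynomial.aeval Pr.val Q = t :=
    ⟨Pr.σ t, Pr.aeval_val_σ t⟩
  let S : Subalgebra ℤ A := Algebra.adjoin ℤ (Pr.coeffs ∪ (Q.coeffs : Set A))
  have hfin : (Pr.coeffs ∪ (Q.coeffs : Set A)).Finite := Pr.finite_coeffs.union (Finset.finite_toSet _)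
  haveI : Algebra.FiniteType ℤ S := .adjoin_of_finite hfin
  haveI : IsNoetherianRing S := Algebra.FiniteType.isNoetherianRing ℤ S
  haveI : Pr.HasCoeffs S := ⟨fun c hc => ⟨⟨c, Algebra.subset_adjoin (Or.inl hc)⟩, rfl⟩⟩
  obtain ⟨Q₀, hQ₀⟩ : Q ∈ Set.range (MvPolynomial.map (algebraMap S A)) := by
    rw [MvPolynomial.mem_range_map_iff_coeffs_subset]
    exact fun c hc => ⟨⟨c, Algebra.subset_adjoin (Or.inr hc)⟩, rfl⟩
  let E := Pr.tensorModelOfHasCoeffsEquiv S
  haveI : Module.Flat A (A ⊗[S] Pr.ModelOfHasCoeffs S) := Module.Flat.of_linearEquiv E.toLinearEquiv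
  have hE : ∀ a : A, E (a ⊗ₜ[S] (Ideal.Quotient.mk _ Q₀)) = a • MvPolynomial.aeval Pr.val Q := by
    intro a
    rw [← hQ₀, MvPolynomial.aeval_map_algebraMap, Algebra.smul_def]
    exact Pr.tensorModelOfHasCoeffsEquiv_tmul S a Q₀
  have h := tmul_eq_zero_of_forall P hP (Ideal.Quotient.mk _ Q₀) fun a ha => by
    obtain ⟨n, hn⟩ := ht a ha
    exact ⟨n, E.injective (by rw [hE, hn, map_zero])⟩
  have := congrArg E h
  rwa [hE, one_smul, map_zero] at this

end GrothLib.SchDensePull
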