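import Groth.Prelude.Def_CInt
import Groth.Agent.Lib.SchDensePull.Algebra
import Mathlib.AlgebraicGeometry.Morphisms.Flat
import Mathlib.AlgebraicGeometry.Morphisms.FinitePresentation

/-!
Preimages of schematically dense opens under flat morphisms locally of finite presentation.
-/

universe u

open CategoryTheory AlgebraicGeometry TopologicalSpace

namespace GrothLib.SchDensePull

variable {X X' : Scheme.{u}}

theorem res_res {A B C : X.Opens} (h₁ : B ≤ A) (h₂ : C ≤ B) (s : Γ(X, A)) :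
    X.presheaf.map (homOfLE h₂).op (X.presheaf.map (homOfLE h₁).op s) =
      X.presheaf.map (homOfLE (h₂.trans h₁)).op s := by
  rw [← CommRingCat.comp_apply, ← Functor.map_comp]
  rfl

/-- A criterion for injectivity of restriction in terms of basic opens. -/
theorem exists_pow_mul_eq_zero {U : X.Opens} (hU : IsAffineOpen U) (V : X.Opens)
    (hV : CInt.IsSchematicallyDense V) (s μ : Γ(X, U))
    (h : ∀ a : Γ(X, U), X.basicOpen a ≤ V → ∃ k n : ℕ, s ^ k * (a ^ n * μ) = 0) :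
    ∃ k : ℕ, s ^ k * μ = 0 := by
  have key : X.presheaf.map (homOfLE (X.basicOpen_le s)).op μ = 0 := by
    refine hV (X.basicOpen s) ?_
    rw [map_zero]
    refine TopCat.Presheaf.section_ext X.sheaf _ _ _ fun y hy => ?_
    obtain ⟨a, haV, hya⟩ := hU.exists_basicOpen_le (V := V) ⟨y, hy.2⟩ (X.basicOpen_le s hy.1)
    obtain ⟨k, n, hk⟩ := h a haV
    have hys : y ∈ X.basicOpen (s ^ k * a ^ n) := by
      rw [X.mem_basicOpen _ y (X.basicOpen_le s hy.1), map_mul, map_pow, map_pow]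
      exact (((X.mem_basicOpen s y _).mp hy.1).pow k).mul (((X.mem_basicOpen a y _).mp hya).pow n)
    have hyU : y ∈ U := X.basicOpen_le s hy.1
    have h2 := congrArg (X.presheaf.germ U y hyU) hk
    rw [← mul_assoc, map_mul, map_zero] at h2
    have h3 := ((X.mem_basicOpen _ y hyU).mp hys).mul_right_eq_zero.mp h2
    erw [map_zero, TopCat.Presheaf.germ_res_apply, TopCat.Presheaf.germ_res_apply]
    exact h3
  haveI := hU.isLocalization_basicOpen s
  obtain ⟨⟨_, k, rfl⟩, hk⟩ :=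
    (IsLocalization.map_eq_zero_iff (Submonoid.powers s) Γ(X, X.basicOpen s) μ).mp key
  exact ⟨k, hk⟩

theorem isSchematicallyDense_preimage (f : X' ⟶ X) [Flat f] [LocallyOfFinitePresentation f]
    (V : X.Opens) (hV : CInt.IsSchematicallyDense V) : CInt.IsSchematicallyDense (f ⁻¹ᵁ V) := by
  intro O
  rw [injective_iff_map_eq_zero]
  intro c hc
  refine TopCat.Presheaf.section_ext X'.sheaf _ _ _ fun x hx => ?_
  obtain ⟨U, hU, hxU⟩ : ∃ U : X.Opens, IsAffineOpen U ∧ f x ∈ U := by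
    obtain ⟨_, ⟨U, hU, rfl⟩, hxU, -⟩ :=
      X.isBasis_affineOpens.exists_subset_of_mem_open (Set.mem_univ (f x)) isOpen_univ
    exact ⟨U, hU, hxU⟩
  obtain ⟨W, hW, hxW, hWle⟩ : ∃ W : X'.Opens, IsAffineOpen W ∧ x ∈ W ∧ W ≤ O ⊓ f ⁻¹ᵁ U := by
    obtain ⟨_, ⟨W, hW, rfl⟩, h1, h2⟩ := X'.isBasis_affineOpens.exists_subset_of_mem_open
      (show x ∈ (O ⊓ f ⁻¹ᵁ U : X'.Opens) from ⟨hx, hxU⟩) (O ⊓ f ⁻¹ᵁ U).2
    exact ⟨W, hW, h1, h2⟩
  have hWU : W ≤ f ⁻¹ᵁ U := hWle.trans inf_le_right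
  algebraize [(f.appLE U W hWU).hom]
  haveI : Algebra.FinitePresentation Γ(X, U) Γ(X', W) := f.finitePresentation_appLE hU hW hWU
  haveI : Module.Flat Γ(X, U) Γ(X', W) := f.flat_appLE hU hW hWU
  let d : Γ(X', W) := X'.presheaf.map (homOfLE (hWle.trans inf_le_left)).op c
  have hd : d = 0 := by
    refine eq_zero_of_forall (A := Γ(X, U)) {a | X.basicOpen a ≤ V}
      (fun s μ h => exists_pow_mul_eq_zero hU V hV s μ h) d fun a ha => ?_
    let b : Γ(X', W) := f.appLE U W hWU a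
    have hb : X'.basicOpen b ≤ O ⊓ f ⁻¹ᵁ V := by
      refine le_inf ((X'.basicOpen_le b).trans (hWle.trans inf_le_left)) ?_
      simp only [b, Scheme.Hom.appLE, CommRingCat.comp_apply, Scheme.basicOpen_res]
      refine inf_le_right.trans ?_
      rw [← Scheme.preimage_basicOpen]
      exact fun z hz => ha hz
    have h1 : X'.presheaf.map (homOfLE (X'.basicOpen_le b)).op d = 0 := by
      rw [res_res, ← res_res (inf_le_left : O ⊓ f ⁻¹ᵁ V ≤ O) hb, hc, map_zero]
    haveI := hW.isLocalization_basicOpen b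
    obtain ⟨⟨_, n, rfl⟩, hn⟩ :=
      (IsLocalization.map_eq_zero_iff (Submonoid.powers b) Γ(X', X'.basicOpen b) d).mp h1
    exact ⟨n, by rw [Algebra.smul_def, map_pow]; exact hn⟩
  have h2 := congrArg (X'.presheaf.germ W x hxW) hd
  rw [map_zero] at h2
  erw [map_zero]
  erw [TopCat.Presheaf.germ_res_apply] at h2
  exact h2

end GrothLib.SchDensePull
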